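import Groth.Agent.SemilocalEssLib.Main
import Groth.Agent.EssEtFracLib.Main
import Groth.Agent.AlgSpLib.ReducedSmooth
import Groth.Agent.SemilocalNormLib.Main
import Mathlib

/-! Intermediate algebras of essentially etale algebras with semilocal normalization. -/

set_option autoImplicit false
set_option linter.unusedSectionVars false

universe u

open IsLocalRing Polynomial
open scoped nonZeroDivisors

namespace SemilocalEssLib

variable {A E : Type u} [CommRing A] [IsLocalRing A] [CommRing E] [Algebra A E]

theorem isReduced_of_essEt [IsReduced A] (hE : EGA4loc.IsEssentiallyEtale A E) : IsReduced E := by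
  obtain ⟨C, _, _, q, _, hC, -, ⟨e⟩⟩ := hE
  haveI : IsReduced C := AlgSpLib.isReduced_of_etale A C
  exact isReduced_of_injective e e.injective

theorem exists_regular {K : Type*} [CommRing K] [IsArtinianRing K] [IsReduced K] (y : K) :
    ∃ z, y * z * y = y := by
  obtain ⟨n, z, hz⟩ := IsArtinian.exists_pow_succ_smul_dvd y (1 : K)
  simp only [smul_eq_mul, mul_one] at hz
  refine ⟨z, sub_eq_zero.1 (IsReduced.eq_zero _ ⟨n + 1, ?_⟩)⟩
  have h : y * z * y - y = y * (z * y - 1) := by ring
  rw [h, mul_pow]
  have h2 : y ^ n * (y * (z * y - 1)) = 0 := by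
    have e : y ^ n * (z * y - 1) = 0 := by
      rw [Nat.succ_eq_add_one, pow_succ] at hz
      linear_combination hz
    linear_combination y * e
  calc y ^ (n + 1) * (z * y - 1) ^ (n + 1)
      = (y ^ n * (y * (z * y - 1))) * (z * y - 1) ^ n := by ring
    _ = 0 := by rw [h2, zero_mul]

/-- Every element of an essentially etale local algebra is a fraction of integral elements. -/
theorem exists_unit_mul_integral (hE : EGA4loc.IsEssentiallyEtale A E) (x : E) :
    ∃ v : E, IsUnit v ∧ IsIntegral A v ∧ IsIntegral A (v * x) := by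
  obtain ⟨C, _, _, q, _, hC, -, ⟨e⟩⟩ := hE
  haveI : Algebra.QuasiFinite A C := inferInstance
  obtain ⟨r, hrq, hr, hri⟩ := Algebra.zariskisMainProperty_iff.1
    (Algebra.ZariskisMainProperty.of_finiteType (R := A) q)
  let φ : C →ₐ[A] E := e.symm.toAlgHom.comp (IsScalarTower.toAlgHom A C _)
  obtain ⟨c, t, hct⟩ := IsLocalization.exists_mk'_eq q.primeCompl (e x : Localization.AtPrime q)
  obtain ⟨m, hm⟩ := hri c
  obtain ⟨k, hk⟩ := hri t
  have hu : ∀ y ∉ q, IsUnit (φ y) := fun y hy =>
    (IsLocalization.map_units (Localization.AtPrime q) (⟨y, hy⟩ : q.primeCompl)).map e.symm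
  refine ⟨φ (r ^ (m + k) * t), ?_, ?_, ?_⟩
  · rw [map_mul, map_pow]
    exact ((hu r hrq).pow _).mul (hu t t.2)
  · rw [show r ^ (m + k) * (t : C) = r ^ m * (r ^ k * t) by ring]
    exact ((hr.pow _).mul hk).map φ
  · have hx : φ t * x = φ c := by
      apply e.injective
      rw [map_mul, ← hct]
      simp only [φ, AlgHom.comp_apply, AlgEquiv.toAlgHom_eq_coe, AlgHom.coe_coe, AlgEquiv.apply_symm_apply,
        IsScalarTower.coe_toAlgHom']
      rw [mul_comm]
      erw [e.apply_symm_apply, e.apply_symm_apply]
      exact IsLocalization.mk'_spec (Localization.AtPrime q) c t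
    rw [map_mul, mul_assoc, hx, ← map_mul, show r ^ (m + k) * c = r ^ k * (r ^ m * c) by ring]
    exact ((hr.pow _).mul hm).map φ

theorem exists_unit_mul_integral_of_isIntegral [Nontrivial E] (hE : EGA4loc.IsEssentiallyEtale A E)
    {K : Type u} [CommRing K] [Algebra A K] [Algebra E K] [IsScalarTower A E K] {y : K} (hy : IsIntegral E y) :
    ∃ v : E, IsUnit v ∧ IsIntegral A v ∧ IsIntegral A (algebraMap E K v * y) := by
  classical
  obtain ⟨g, hg, hgy⟩ := hy
  choose v hvu hvi hvx using fun i => exists_unit_mul_integral hE (g.coeff i)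
  let V : E := ∏ i ∈ Finset.range g.natDegree, v i
  have hVi : IsIntegral A V := IsIntegral.prod _ fun i _ => hvi i
  have hVx : ∀ i < g.natDegree, IsIntegral A (g.coeff i * V) := fun i hi => by
    rw [show V = v i * ∏ j ∈ (Finset.range g.natDegree).erase i, v j from
      (Finset.mul_prod_erase _ _ (Finset.mem_range.2 hi)).symm, ← mul_assoc, mul_comm (g.coeff i)]
    exact (hvx i).mul (IsIntegral.prod _ fun j _ => hvi j)
  refine ⟨V, IsUnit.prod_iff.2 fun i _ => hvu i, hVi, ?_⟩
  have hlifts : scaleRoots g V ∈ lifts (algebraMap (integralClosure A E) E) := by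
    rw [lifts_iff_coeff_lifts]
    intro i
    refine ⟨⟨(scaleRoots g V).coeff i, ?_⟩, rfl⟩
    show IsIntegral A ((scaleRoots g V).coeff i)
    rcases lt_trichotomy i g.natDegree with hi | rfl | hi
    · rw [coeff_scaleRoots, show g.natDegree - i = g.natDegree - i - 1 + 1 by omega, pow_succ',
        ← mul_assoc]
      exact (hVx i hi).mul (hVi.pow _)
    · rw [coeff_scaleRoots_natDegree, show g.leadingCoeff = 1 from hg]
      exact isIntegral_one
    · rw [coeff_scaleRoots, coeff_eq_zero_of_natDegree_lt hi, zero_mul]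
      exact isIntegral_zero
  obtain ⟨G, hG, -, hGm⟩ := lifts_and_degree_eq_and_monic hlifts ((monic_scaleRoots_iff V).2 hg)
  have hroot : IsIntegral (integralClosure A E) (algebraMap E K V * y) := by
    refine ⟨G, hGm, ?_⟩
    rw [IsScalarTower.algebraMap_eq (integralClosure A E) E K, ← eval₂_map, hG]
    exact scaleRoots_aeval_eq_zero (r := V) hgy
  exact isIntegral_trans _ hroot

theorem finite_integralClosure_fraction [IsReduced A] (hN : CAlg.IsNagata A)
    (hE : EGA4loc.IsEssentiallyEtale A E) : Module.Finite A (integralClosure A (FractionRing E)) := by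
  haveI := hN.1
  haveI := isReduced_of_essEt hE
  let := EssEtFracLib.fracAlgebra hE
  have := EssEtFracLib.fracTower hE
  obtain ⟨-, hart, hfinK⟩ := EssEtFracLib.main_frac (minimalPrimes.finite_of_isNoetherianRing A) hE
  haveI := hart
  haveI := hfinK
  haveI : IsReduced (FractionRing E) :=
    isReduced_localizationPreserves E⁰ (FractionRing E) ‹IsReduced E›
  let K := FractionRing E
  haveI : Algebra.QuasiFinite A (FractionRing A) := Algebra.QuasiFinite.of_isLocalization A⁰
  haveI : Algebra.QuasiFinite A K := Algebra.QuasiFinite.trans A (FractionRing A) K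
  haveI : Finite (PrimeSpectrum K) := inferInstance
  haveI : ∀ P : PrimeSpectrum K, Module.Finite A (integralClosure A P.asIdeal.ResidueField) := fun P =>
    SemilocalNormLib.finite_integralClosure_residueField hN P.asIdeal
  let Φ : integralClosure A K →ₐ[A] ∀ P : PrimeSpectrum K, integralClosure A P.asIdeal.ResidueField :=
    Pi.algHom A _ fun P => ((IsScalarTower.toAlgHom A K P.asIdeal.ResidueField).comp
      (integralClosure A K).val).codRestrict _ fun x => (x.2 : IsIntegral A x.1).map (IsScalarTower.toAlgHom A K P.asIdeal.ResidueField)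
  refine Module.Finite.of_injective Φ.toLinearMap ((injective_iff_map_eq_zero Φ.toLinearMap).2 fun x hx => ?_)
  refine Subtype.ext (IsReduced.eq_zero _ (nilpotent_iff_mem_prime.2 fun J hJ => ?_))
  exact Ideal.algebraMap_residueField_eq_zero.1 (congrArg Subtype.val (congr_fun hx ⟨J, hJ⟩))

/-- The algebra `D` with semilocally dominated normalization is essentially of finite type. -/
theorem essFiniteType [IsReduced A] (hN : CAlg.IsNagata A) [IsLocalRing E] [IsLocalHom (algebraMap A E)]
    (hE : EGA4loc.IsEssentiallyEtale A E) (D : Subalgebra A E) [IsLocalRing D] [IsLocalHom (algebraMap D E)]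
    (D' : Subalgebra A (FractionRing E))
    (hD' : ∀ x : (FractionRing E), x ∈ D' ↔ (IsIntegral D x ∧
      ∃ a ∈ nonZeroDivisors A, ∃ d ∈ D, algebraMap A (FractionRing E) a * x = algebraMap E (FractionRing E) d))
    (hle : D' ≤ ((integralClosure E (FractionRing E)).restrictScalars A))
    (hfin : {N : Ideal D' | N.IsMaximal}.Finite)
    (hsurj : ∀ N : Ideal D', N.IsMaximal →
      ∃ M : Ideal ((integralClosure E (FractionRing E)).restrictScalars A), M.IsMaximal ∧
        M.comap (Subalgebra.inclusion hle) = N) :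
    Algebra.EssFiniteType A D := by
  haveI := hN.1
  haveI := isReduced_of_essEt hE
  haveI : IsLocalHom (algebraMap A D) := by
    refine ⟨fun a ha => ?_⟩
    have := ha.map (algebraMap D E)
    rw [← IsScalarTower.algebraMap_apply] at this
    exact isUnit_of_map_unit _ a this
  let := EssEtFracLib.fracAlgebra hE
  have := EssEtFracLib.fracTower hE
  obtain ⟨-, hart, hfinK⟩ := EssEtFracLib.main_frac (minimalPrimes.finite_of_isNoetherianRing A) hE
  haveI := hart
  haveI := hfinK
  haveI : IsArtinianRing (FractionRing A) :=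
    (BranchLib.fractionRing_data A (minimalPrimes.finite_of_isNoetherianRing A)).1
  haveI : IsReduced (FractionRing E) :=
    isReduced_localizationPreserves E⁰ (FractionRing E) ‹IsReduced E›
  let K := FractionRing E
  let j := algebraMap E K
  let L : Subalgebra (FractionRing A) K :=
    { carrier := {x | ∃ a ∈ A⁰, ∃ d ∈ D, algebraMap A K a * x = j d}
      mul_mem' := by
        rintro x y ⟨a, ha, d, hd, hx⟩ ⟨b, hb, e, he, hy⟩
        exact ⟨a * b, A⁰.mul_mem ha hb, d * e, D.mul_mem hd he, by rw [map_mul, map_mul, ← hx, ← hy]; ring⟩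
      add_mem' := by
        rintro x y ⟨a, ha, d, hd, hx⟩ ⟨b, hb, e, he, hy⟩
        refine ⟨a * b, A⁰.mul_mem ha hb, algebraMap A E b * d + algebraMap A E a * e,
          D.add_mem (D.mul_mem (D.algebraMap_mem b) hd) (D.mul_mem (D.algebraMap_mem a) he), ?_⟩
        rw [map_mul, map_add, map_mul, map_mul, ← hx, ← hy, ← IsScalarTower.algebraMap_apply A E K,
          ← IsScalarTower.algebraMap_apply A E K]
        ring
      algebraMap_mem' := fun c => by
        obtain ⟨b, a, rfl⟩ := IsLocalization.exists_mk'_eq A⁰ c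
        refine ⟨a, a.2, algebraMap A E b, D.algebraMap_mem b, ?_⟩
        rw [IsScalarTower.algebraMap_apply A (FractionRing A) K, ← map_mul, mul_comm, IsLocalization.mk'_spec,
          ← IsScalarTower.algebraMap_apply A (FractionRing A) K, ← IsScalarTower.algebraMap_apply A E K] }
  haveI : Module.Finite (FractionRing A) L :=
    Module.Finite.of_injective L.val.toLinearMap Subtype.val_injective
  haveI : IsArtinianRing L := IsArtinianRing.of_finite (FractionRing A) L
  haveI : IsReduced L := isReduced_of_injective L.val Subtype.val_injective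
  let L' : Subalgebra A K := L.restrictScalars A
  have hreg : ∀ y ∈ L', ∃ z ∈ L', y * z * y = y := fun y hy => by
    obtain ⟨z, hz⟩ := exists_regular (⟨y, hy⟩ : L)
    exact ⟨z, z.2, congrArg Subtype.val hz⟩
  let R : Subalgebra A K := (integralClosure E K).restrictScalars A
  have hR : integralClosure A K ≤ R := fun x hx => (IsIntegral.tower_top hx : IsIntegral E x)
  have hmem : ∀ a ∈ L', IsIntegral A a → a ∈ D' := fun a ha hai =>
    (hD' a).2 ⟨hai.tower_top, ha⟩
  let ι : D →ₐ[A] D' := ((IsScalarTower.toAlgHom A E K).comp D.val).codRestrict D' fun d =>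
    (hD' _).2 ⟨isIntegral_algebraMap, 1, A⁰.one_mem, d, d.2, by rw [map_one, one_mul]; rfl⟩
  letI : Algebra D D' := ι.toAlgebra
  haveI : IsScalarTower A D D' := IsScalarTower.of_algebraMap_eq fun a => (ι.commutes a).symm
  haveI : IsScalarTower D D' K := IsScalarTower.of_algebraMap_eq fun _ => rfl
  haveI : Algebra.IsIntegral D D' := ⟨fun x =>
    (isIntegral_algHom_iff (IsScalarTower.toAlgHom D D' K) Subtype.val_injective).1 ((hD' x).1 x.2).1⟩
  have hinj : Function.Injective (algebraMap D D') := fun d e h =>
    Subtype.ext (IsFractionRing.injective E K (congrArg Subtype.val h))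
  let C : Subalgebra A D' := (integralClosure A K ⊓ L').comap D'.val
  haveI := finite_integralClosure_fraction hN hE
  haveI : Module.Finite A C := Module.Finite.of_injective
    ((D'.val.comp C.val).codRestrict (integralClosure A K) fun c => c.2.1).toLinearMap
    fun c e h => Subtype.ext (Subtype.ext (congrArg Subtype.val h :))
  refine essFiniteType_of_semilocal hinj C hfin fun x N hN' => ?_
  obtain ⟨M, hM, hMN⟩ := hsurj N hN'
  haveI := hM
  obtain ⟨p₀, hp₀, hp₀M⟩ := Ideal.exists_minimalPrimes_le (bot_le : (⊥ : Ideal R) ≤ M)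
  have hp₀' : p₀ ∈ ((⊥ : Ideal K).comap R.val.toRingHom).minimalPrimes := by
    rwa [Ideal.comap_bot_of_injective _ (Subtype.val_injective : Function.Injective R.val.toRingHom)]
  obtain ⟨P, hP, -, hPp₀⟩ := Ideal.exists_comap_eq_of_mem_minimalPrimes R.val.toRingHom p₀ hp₀'
  haveI := hP
  haveI : P.IsMaximal := IsArtinianRing.isMaximal_of_isPrime P
  obtain ⟨v, hvu, hvi, hvy⟩ := exists_unit_mul_integral_of_isIntegral hE (K := K) (hle x.2)
  have hsi : IsIntegral A (j v) := hvi.map (IsScalarTower.toAlgHom A E K)
  have hsM : (⟨j v, hR hsi⟩ : R) ∉ M := fun h => hM.ne_top (M.eq_top_of_isUnit_mem h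
    (hvu.map (algebraMap E (integralClosure E K))))
  have hxL : (x : K) ∈ L' := ((hD' x).1 x.2).2
  obtain ⟨a, ha, hai, haM, hax⟩ := exists_mul_integral L' hreg P R hR M
    (fun r hr => hp₀M (by rw [← hPp₀]; exact hr)) hxL hsi (by rw [mul_comm]; exact hvy) hsM
  refine ⟨⟨a, hmem a ha hai⟩, ⟨hai, ha⟩, fun haN => haM ?_, ⟨hax, L'.mul_mem ha hxL⟩⟩
  rw [← hMN] at haN
  exact haN

end SemilocalEssLib
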