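import Mathlib

/-! An intermediate algebra whose normalization is semilocal and semilocally dominated is essentially
of finite type: the algebraic core. -/

set_option autoImplicit false
set_option linter.unusedSectionVars false

universe u v w

open Polynomial IsLocalRing

namespace SemilocalEssLib

section Key

variable {A : Type u} {K : Type v} [CommRing A] [CommRing K] [Algebra A K]
variable (L : Subalgebra A K) (hreg : ∀ y ∈ L, ∃ z ∈ L, y * z * y = y)
variable (P : Ideal K) [P.IsMaximal]

include hreg in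
/-- An element of `L` in `P` is killed by an integral element of `L` congruent to `1` modulo `P`. -/
theorem exists_kill {w : K} (hw : w ∈ L) (hwP : w ∈ P) :
    ∃ ε ∈ L, IsIntegral A ε ∧ ε * ε = ε ∧ ε - 1 ∈ P ∧ ε * w = 0 := by
  obtain ⟨z, hz, hzw⟩ := hreg w hw
  have h2 : z * w * (z * w) = z * w := by
    calc z * w * (z * w) = z * (w * z * w) := by ring
      _ = z * w := by rw [hzw]
  refine ⟨1 - z * w, L.sub_mem L.one_mem (L.mul_mem hz hw), ?_, ?_, ?_, ?_⟩
  · refine ⟨X ^ 2 - X, by monicity!, ?_⟩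
    rw [eval₂_sub, eval₂_X_pow, eval₂_X, sub_eq_zero]
    linear_combination h2
  · linear_combination h2
  · have : 1 - z * w - 1 = -(z * w) := by ring
    rw [this]
    exact P.neg_mem (P.mul_mem_left z hwP)
  · linear_combination (-1 : K) * hzw

include hreg in
/-- Integral elements lift from the image of `L` in the residue field. -/
theorem exists_lift {l : K} (hl : l ∈ L) (hint : IsIntegral A (Ideal.Quotient.mk P l)) :
    ∃ ε ∈ L, ε - 1 ∈ P ∧ IsIntegral A ε ∧ IsIntegral A (ε * l) := by
  obtain ⟨p, hp, hpl⟩ := hint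
  have hw : aeval l p ∈ L := by
    rw [show aeval l p = L.val (aeval (⟨l, hl⟩ : L) p) from (Polynomial.aeval_algHom_apply L.val (⟨l, hl⟩ : L) p :)]
    exact SetLike.coe_mem _
  have hwP : aeval l p ∈ P := by
    rw [← Ideal.Quotient.eq_zero_iff_mem, ← Ideal.Quotient.mkₐ_eq_mk A, ← aeval_algHom_apply]
    exact hpl
  obtain ⟨ε, hε, hεint, hid, hε1, hεw⟩ := exists_kill L hreg P hw hwP
  refine ⟨ε, hε, hε1, hεint, X * p, monic_X.mul hp, ?_⟩
  have hpow : ∀ q : A[X], ε * aeval (ε * l) q = ε * aeval l q := by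
    intro q
    induction q using Polynomial.induction_on' with
    | add a b ha hb => simp only [map_add, mul_add, ha, hb]
    | monomial n a =>
      have hn : ε * (ε * l) ^ n = ε * l ^ n := by
        induction n with
        | zero => simp
        | succ n ih =>
          calc ε * (ε * l) ^ (n + 1) = (ε * (ε * l) ^ n) * (ε * l) := by ring
            _ = (ε * l ^ n) * (ε * l) := by rw [ih]
            _ = (ε * ε) * l ^ (n + 1) := by ring
            _ = ε * l ^ (n + 1) := by rw [hid]
      rw [aeval_monomial, aeval_monomial, mul_left_comm, hn, mul_left_comm]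
  have h := hpow p
  rw [hεw] at h
  change aeval (ε * l) (X * p) = 0
  rw [map_mul, aeval_X, mul_comm ε l, mul_assoc, mul_comm l ε, h, mul_zero]

variable (R : Subalgebra A K) (hR : integralClosure A K ≤ R) (M : Ideal R) [M.IsPrime]
  (hPM : ∀ r : R, (r : K) ∈ P → r ∈ M)

include hreg hR hPM in
/-- The key lemma. -/
theorem exists_mul_integral {x s : K} (hx : x ∈ L) (hs : IsIntegral A s) (hxs : IsIntegral A (x * s))
    (hsM : (⟨s, hR hs⟩ : R) ∉ M) :
    ∃ a, a ∈ L ∧ ∃ ha : IsIntegral A a, (⟨a, hR ha⟩ : R) ∉ M ∧ IsIntegral A (a * x) := by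
  classical
  let π : K →ₐ[A] K ⧸ P := Ideal.Quotient.mkₐ A P
  have hπ : ∀ k, π k = 0 ↔ k ∈ P := fun k => Ideal.Quotient.eq_zero_iff_mem
  have h1M : ∀ (e : K) (he : IsIntegral A e), e - 1 ∈ P → (⟨e, hR he⟩ : R) ∉ M := fun e he he1 hM => by
    have h' : (⟨e, hR he⟩ : R) - 1 ∈ M := hPM _ he1
    exact Ideal.IsPrime.ne_top ‹_› ((Ideal.eq_top_iff_one _).2 (by simpa using M.sub_mem hM h'))
  letI : Field (K ⧸ P) := Ideal.Quotient.field P
  by_cases hx0 : x ∈ P
  · obtain ⟨ε, hε, hεint, -, hε1, hεx⟩ := exists_kill L hreg P hx hx0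
    exact ⟨ε, hε, hεint, h1M ε hεint hε1, by rw [hεx]; exact isIntegral_zero⟩
  let F : Subalgebra A (K ⧸ P) := L.map π
  have hF : IsField F := by
    refine ⟨⟨0, 1, zero_ne_one⟩, mul_comm, fun {y} hy => ?_⟩
    obtain ⟨l, hl, hly⟩ := y.2
    obtain ⟨z, hz, hzl⟩ := hreg l hl
    refine ⟨⟨π z, z, hz, rfl⟩, Subtype.ext ?_⟩
    change (y : K ⧸ P) * π z = 1
    have hy0 : (y : K ⧸ P) ≠ 0 := fun h => hy (Subtype.ext h)
    refine mul_right_cancel₀ hy0 ?_
    rw [← hly, one_mul]
    exact (by rw [← map_mul, ← map_mul, hzl] : π l * π z * π l = π l)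
  letI : Field F := hF.toField
  have hFint : IsIntegral F (π s) := (hs.map π).tower_top
  let xF : F := ⟨π x, x, hx, rfl⟩
  have hxF : xF ≠ 0 := fun h => hx0 ((hπ x).1 (congrArg Subtype.val h))
  let q := minpoly F (π s)
  have hq : q.Monic := minpoly.monic hFint
  have hcoef : ∀ (y : K) (g : F[X]), IsIntegral A y → g.Monic → g = minpoly F (π y) →
      ∀ i, IsIntegral A (g.coeff i) := by
    intro y g hy hg hge i
    obtain ⟨p, hp, hpy⟩ := hy.map π
    refine Polynomial.isIntegral_coeff_of_dvd p g hp hg ?_ i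
    rw [hge]
    refine minpoly.dvd F (π y) ?_
    rw [aeval_map_algebraMap]
    exact hpy
  have hscale : scaleRoots q xF = minpoly F (π (x * s)) := by
    refine minpoly.unique F _ ((monic_scaleRoots_iff xF).2 hq) ?_ fun g hg hg0 => ?_
    · rw [map_mul]
      exact scaleRoots_aeval_eq_zero (r := xF) (minpoly.aeval F (π s))
    · rw [degree_scaleRoots, ← degree_scaleRoots g (s := xF⁻¹)]
      refine minpoly.min F (π s) ((monic_scaleRoots_iff _).2 hg) ?_
      have h := scaleRoots_aeval_eq_zero (r := xF⁻¹) hg0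
      rw [map_mul, ← mul_assoc, show π x = algebraMap F (K ⧸ P) xF from rfl, ← map_mul,
        inv_mul_cancel₀ hxF, map_one, one_mul] at h
      exact h
  have hb : ∀ i, IsIntegral A (q.coeff i) := hcoef s q hs hq rfl
  have hc : ∀ i, IsIntegral A (q.coeff i * xF ^ (q.natDegree - i)) := fun i => by
    rw [← coeff_scaleRoots]
    exact hcoef (x * s) _ hxs ((monic_scaleRoots_iff _).2 hq) hscale i
  have hlift : ∀ i, ∃ a, a ∈ L ∧ π a = (q.coeff i : K ⧸ P) ∧ IsIntegral A a := fun i => by
    obtain ⟨l, hl, hlπ⟩ := (q.coeff i).2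
    have hli : IsIntegral A (Ideal.Quotient.mk P l) := by
      change IsIntegral A (π l)
      rw [show π l = ((q.coeff i : F) : K ⧸ P) from hlπ]
      exact (hb i).map F.val
    obtain ⟨ε, hε, hε1, -, hεl⟩ := exists_lift L hreg P hl hli
    refine ⟨ε * l, L.mul_mem hε hl, ?_, hεl⟩
    rw [map_mul, show π ε = 1 from sub_eq_zero.1 (by rw [← map_one π, ← map_sub]; exact (hπ _).2 hε1),
      one_mul]
    exact hlπ
  choose a ha haπ haint using hlift
  obtain ⟨i, hi, hiM⟩ : ∃ i, i < q.natDegree ∧ (⟨a i, hR (haint i)⟩ : R) ∉ M := by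
    by_contra hall
    push Not at hall
    let S : R := ⟨s, hR hs⟩
    let W : R := S ^ q.natDegree + ∑ i ∈ Finset.range q.natDegree, (⟨a i, hR (haint i)⟩ : R) * S ^ i
    have hW : W ∈ M := by
      refine hPM W ((hπ _).1 ?_)
      have h0 : aeval (π s) q = 0 := minpoly.aeval F (π s)
      rw [aeval_eq_sum_range, Finset.sum_range_succ, hq.coeff_natDegree, one_smul] at h0
      have hWK : (W : K) = s ^ q.natDegree + ∑ i ∈ Finset.range q.natDegree, a i * s ^ i := by
        simp [W, S]
      rw [hWK, map_add, map_pow, map_sum]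
      rw [← h0, add_comm]
      congr 1
      refine Finset.sum_congr rfl fun i _ => ?_
      rw [map_mul, map_pow, haπ i]
      rfl
    have hsum : ∑ i ∈ Finset.range q.natDegree, (⟨a i, hR (haint i)⟩ : R) * S ^ i ∈ M :=
      M.sum_mem fun i hi => M.mul_mem_right _ (hall i (Finset.mem_range.1 hi))
    exact hsM (Ideal.IsPrime.mem_of_pow_mem ‹_› _ ((M.add_mem_iff_left hsum).1 hW))
  have hm : 0 < q.natDegree - i := Nat.sub_pos_of_lt hi
  have hbx : IsIntegral A (q.coeff i * xF) := by
    refine IsIntegral.of_pow hm ?_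
    rw [mul_pow, ← Nat.succ_pred_eq_of_pos hm, pow_succ (q.coeff i), mul_assoc]
    refine ((hb i).pow _).mul ?_
    rw [Nat.succ_pred_eq_of_pos hm]
    exact hc i
  have hπax : IsIntegral A (Ideal.Quotient.mk P (a i * x)) := by
    change IsIntegral A (π (a i * x))
    rw [map_mul, haπ i, show π x = (xF : K ⧸ P) from rfl]
    exact hbx.map F.val
  obtain ⟨ε, hε, hε1, hεint, hεax⟩ := exists_lift L hreg P (L.mul_mem (ha i) hx) hπax
  refine ⟨ε * a i, L.mul_mem hε (ha i), hεint.mul (haint i), fun hM => ?_, by rw [mul_assoc]; exact hεax⟩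
  have hM' : (⟨ε, hR hεint⟩ : R) * ⟨a i, hR (haint i)⟩ ∈ M := hM
  exact (Ideal.IsPrime.mem_or_mem ‹_› hM').elim (h1M ε hεint hε1) hiM

end Key

section Ess

variable {A : Type u} {D : Type v} {D' : Type w} [CommRing A] [IsLocalRing A] [IsNoetherianRing A]
  [CommRing D] [IsLocalRing D] [CommRing D'] [Algebra A D] [IsLocalHom (algebraMap A D)]
  [Algebra D D'] [Algebra A D'] [IsScalarTower A D D']

/-- A local algebra with an integral extension which is a semilocalization of a finite algebra is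
essentially of finite type. -/
theorem essFiniteType_of_semilocal (hinj : Function.Injective (algebraMap D D')) [Algebra.IsIntegral D D']
    (C : Subalgebra A D') [Module.Finite A C] (hfin : {N : Ideal D' | N.IsMaximal}.Finite)
    (hfrac : ∀ (x : D') (N : Ideal D'), N.IsMaximal → ∃ a ∈ C, a ∉ N ∧ a * x ∈ C) :
    Algebra.EssFiniteType A D := by
  classical
  let T : Set C := {c | IsUnit (c : D')}
  have hT : ∀ x : D', ∃ c : C, c ∈ T ∧ (c : D') * x ∈ C := by
    intro x
    let I : Ideal C :=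
      { carrier := {c | (c : D') * x ∈ C}
        add_mem' := fun {a b} ha hb => by
          simp only [Set.mem_ofPred_eq, AddMemClass.coe_add, add_mul] at *
          exact C.add_mem ha hb
        zero_mem' := by simp
        smul_mem' := fun c {a} ha => by
          simp only [Set.mem_ofPred_eq, smul_eq_mul, MulMemClass.coe_mul, mul_assoc] at *
          exact C.mul_mem c.2 ha }
    by_contra hno
    push Not at hno
    have hsub : (I : Set C) ⊆ ⋃ N ∈ (hfin.toFinset : Set (Ideal D')), (N.comap C.val : Set C) := by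
      intro c hc
      obtain ⟨N, hN, hcN⟩ := exists_max_ideal_of_mem_nonunits (a := (c : D')) (fun h => hno c h hc)
      exact Set.mem_biUnion (Finset.mem_coe.2 (hfin.mem_toFinset.2 hN)) hcN
    obtain ⟨N, hN, hIN⟩ := (Ideal.subset_union_prime (R := C) (f := fun N : Ideal D' => N.comap C.val) ⊥ ⊥
      (fun N hN _ _ => (hfin.mem_toFinset.1 hN).isPrime.comap _)).1 hsub
    obtain ⟨a, ha, haN, hax⟩ := hfrac x N (hfin.mem_toFinset.1 hN)
    exact haN (hIN (x := ⟨a, ha⟩) hax)
  have hCmax : {Q : Ideal C | Q.IsMaximal}.Finite := by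
    refine (Algebra.QuasiFinite.finite_primesOver (S := C) (maximalIdeal A)).subset fun Q hQ => ?_
    haveI : Q.IsMaximal := hQ
    exact ⟨Ideal.IsMaximal.isPrime hQ, ⟨(IsLocalRing.eq_maximalIdeal
      (Ideal.isMaximal_comap_of_isIntegral_of_isMaximal (R := A) Q)).symm⟩⟩
  let bad := hCmax.toFinset.filter fun Q => ∃ c ∈ Q, c ∈ T
  have hbad : ∀ Q : bad, ∃ c ∈ Q.1, c ∈ T := fun Q => (Finset.mem_filter.1 Q.2).2
  choose t htQ htT using hbad
  let u : bad → D' := fun Q => ((htT Q).unit⁻¹ : D'ˣ)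
  have hu : ∀ Q, (t Q : D') * u Q = 1 := fun Q => (htT Q).mul_val_inv
  choose pol hpol hpolu using fun Q => Algebra.IsIntegral.isIntegral (R := D) (u Q)
  let F : Finset D := bad.attach.biUnion fun Q => (pol Q).coeffs
  let S₁ := Algebra.adjoin A (F : Set D)
  haveI : Algebra.FiniteType A S₁ := S₁.fg_iff_finiteType.1 (Subalgebra.fg_adjoin_finset F)
  let p : Ideal S₁ := (maximalIdeal D).comap S₁.val
  haveI : p.IsPrime := inferInstance
  let D₁ := Localization.AtPrime p
  have hunit : ∀ y : p.primeCompl, IsUnit (S₁.val y) := fun y => by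
    by_contra h
    exact y.2 ((IsLocalRing.mem_maximalIdeal _).2 h)
  let f : D₁ →ₐ[A] D := IsLocalization.liftAlgHom (M := p.primeCompl) hunit
  letI : Algebra D₁ D := f.toAlgebra
  haveI : IsScalarTower A D₁ D := IsScalarTower.of_algebraMap_eq fun a => (f.commutes a).symm
  letI : Algebra D₁ D' := ((algebraMap D D').comp f.toRingHom).toAlgebra
  haveI : IsScalarTower D₁ D D' := IsScalarTower.of_algebraMap_eq fun _ => rfl
  haveI : IsScalarTower A D₁ D' := IsScalarTower.of_algebraMap_eq fun a => by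
    change _ = algebraMap D D' (f (algebraMap A D₁ a))
    rw [f.commutes, ← IsScalarTower.algebraMap_apply]
  haveI : IsNoetherianRing S₁ := Algebra.FiniteType.isNoetherianRing A _
  haveI : IsNoetherianRing D₁ := IsLocalization.isNoetherianRing p.primeCompl _ ‹_›
  have hint : ∀ z : D', (z ∈ C ∨ ∃ Q, u Q = z) → IsIntegral D₁ z := by
    rintro z (hz | ⟨Q, rfl⟩)
    · exact ((Algebra.IsIntegral.isIntegral (R := A) (⟨z, hz⟩ : C)).map C.val).tower_top
    · have hmem : ∀ d ∈ (pol Q).coeffs, d ∈ Set.range f := fun d hd =>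
        ⟨algebraMap S₁ D₁ ⟨d, Algebra.subset_adjoin (Finset.mem_biUnion.2 ⟨Q, Finset.mem_attach _ _, hd⟩)⟩,
          IsLocalization.lift_eq _ _⟩
      have hlifts : pol Q ∈ lifts f.toRingHom := by
        rw [lifts_iff_coeff_lifts]
        intro n
        by_cases h0 : (pol Q).coeff n = 0
        · exact ⟨0, by rw [h0]; exact map_zero _⟩
        · exact hmem _ (coeff_mem_coeffs h0)
      obtain ⟨g, hg, -, hgm⟩ := lifts_and_degree_eq_and_monic hlifts (hpol Q)
      refine ⟨g, hgm, ?_⟩
      rw [show algebraMap D₁ D' = (algebraMap D D').comp f.toRingHom from rfl, ← eval₂_map, hg]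
      exact hpolu Q
  let gen : Set D' := (C : Set D') ∪ Set.range u
  let G := Algebra.adjoin D₁ gen
  haveI : Algebra.IsIntegral D₁ G := ⟨fun g => (isIntegral_algHom_iff G.val Subtype.val_injective).1
    ((Algebra.adjoin_le (S := integralClosure D₁ D') fun z hz => hint z hz) g.2)⟩
  obtain ⟨cs, hcs⟩ := Module.Finite.fg_top (R := A) (M := C)
  have hG : (G.toSubmodule : Submodule D₁ D').FG := by
    let gen' : Set D' := (Subtype.val '' (cs : Set C)) ∪ Set.range u
    have hle : G ≤ Algebra.adjoin D₁ gen' := by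
      refine Algebra.adjoin_le ?_
      rintro z (hz | hz)
      · have h1 : (⟨z, hz⟩ : C) ∈ Submodule.span A (cs : Set C) := hcs ▸ Submodule.mem_top
        have h2 := Submodule.mem_map_of_mem (f := C.val.toLinearMap) h1
        rw [Submodule.map_span] at h2
        refine (Submodule.span_le (p := ((Algebra.adjoin D₁ gen').restrictScalars A).toSubmodule)).2 ?_ h2
        rintro _ ⟨c, hc, rfl⟩
        exact Algebra.subset_adjoin (R := D₁) (Or.inl ⟨c, hc, rfl⟩)
      · exact Algebra.subset_adjoin (Or.inr hz)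
    have hge : Algebra.adjoin D₁ gen' ≤ G :=
      Algebra.adjoin_mono (Set.union_subset_union_left _ (by rintro _ ⟨c, -, rfl⟩; exact c.2))
    rw [le_antisymm hle hge]
    refine fg_adjoin_of_finite ((cs.finite_toSet.image _).union (Set.finite_range _)) fun z hz => ?_
    exact hint z (hz.imp (fun ⟨c, _, hc⟩ => hc ▸ c.2) id)
  have hGtop : G = ⊤ := by
    refine eq_top_iff.2 fun x _ => ?_
    obtain ⟨c, hc, hcx⟩ := hT x
    have hcG : (c : D') ∈ G := Algebra.subset_adjoin (Or.inl c.2)
    have hcu : IsUnit (⟨c, hcG⟩ : G) := by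
      by_contra hnu
      obtain ⟨Q₁, hQ₁, hcQ₁⟩ := exists_max_ideal_of_mem_nonunits hnu
      let incl : C →ₐ[A] G := AlgHom.codRestrict C.val (G.restrictScalars A)
        fun c => Algebra.subset_adjoin (R := D₁) (Or.inl c.2)
      let Q := Q₁.comap incl
      have hQmax : Q.IsMaximal := by
        haveI := hQ₁
        have hD₁ : Q₁.comap (algebraMap D₁ G) = maximalIdeal D₁ :=
          IsLocalRing.eq_maximalIdeal (by exact Ideal.isMaximal_comap_of_isIntegral_of_isMaximal (R := D₁) (S := G) Q₁)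
        have hA : Q.comap (algebraMap A C) = maximalIdeal A := by
          ext a
          rw [Ideal.mem_comap, Ideal.mem_comap, AlgHom.commutes, IsScalarTower.algebraMap_apply A D₁ G,
            ← Ideal.mem_comap, hD₁, IsScalarTower.algebraMap_apply A S₁ D₁,
            IsLocalization.AtPrime.to_map_mem_maximal_iff D₁ p]
          change algebraMap A D a ∈ maximalIdeal D ↔ _
          rw [IsLocalRing.mem_maximalIdeal, IsLocalRing.mem_maximalIdeal, mem_nonunits_iff, mem_nonunits_iff,
            isUnit_map_iff]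
        haveI : (Q.comap (algebraMap A C)).IsMaximal := hA ▸ maximalIdeal.isMaximal A
        exact Ideal.isMaximal_of_isIntegral_of_isMaximal_comap Q ‹_›
      have hQbad : Q ∈ bad := Finset.mem_filter.2 ⟨hCmax.mem_toFinset.2 hQmax, c, hcQ₁, hc⟩
      have h1 : incl (t ⟨Q, hQbad⟩) * ⟨u ⟨Q, hQbad⟩, Algebra.subset_adjoin (Or.inr ⟨_, rfl⟩)⟩ = (1 : G) :=
        Subtype.ext (hu _)
      exact hQ₁.ne_top ((Ideal.eq_top_iff_one _).2 (h1 ▸ Q₁.mul_mem_right _ (htQ ⟨Q, hQbad⟩)))
    obtain ⟨v, hv⟩ := hcu.exists_left_inv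
    have hx : x = (v : D') * ((c : D') * x) := by
      rw [← mul_assoc, show (v : D') * (c : D') = 1 from congrArg Subtype.val hv, one_mul]
    rw [hx]
    exact G.mul_mem v.2 (Algebra.subset_adjoin (Or.inl hcx))
  haveI : Module.Finite D₁ D' := ⟨by rw [← Algebra.top_toSubmodule, ← hGtop]; exact hG⟩
  haveI : IsNoetherian D₁ D' := isNoetherian_of_isNoetherianRing_of_finite D₁ D'
  haveI : Module.Finite D₁ D := Module.Finite.of_injective (IsScalarTower.toAlgHom D₁ D D').toLinearMap hinj
  haveI : Algebra.EssFiniteType S₁ D₁ := Algebra.EssFiniteType.of_isLocalization _ p.primeCompl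
  haveI : Algebra.EssFiniteType A D₁ := Algebra.EssFiniteType.comp A S₁ D₁
  exact Algebra.EssFiniteType.comp A D₁ D

end Ess

end SemilocalEssLib
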